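import Mathlib
import Cfsg.Agent.H829.FieldTypes
import Cfsg.Agent.H296.ESixGF

/-!
# Graph type: the graph automorphism in the factorization is not trivial (helper296)

* `perm_eq_one` : an inner automorphism `conj c` fixing `U` and acting on the root groups of the simple roots and of
  their negatives by the permutation `σ` of the nodes: `σ = 1`;
* `diag_of_fix` : an automorphism fixing all root groups;
* `not_graph` : `x = conj y * d * φ` (`d` diagonal, `φ` a field automorphism) is not of graph type (`GraphType`).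
-/

set_option autoImplicit false
set_option linter.unusedSectionVars false

namespace Cfsg.Agent.H296.Link

open CoxeterSystem Cfsg.Agent.ChevalleyStructure.CoxeterGeom Cfsg.Agent.Tits.Roots Cfsg.Agent.Tits.Core
  Cfsg.Agent.Nodes.Reps Cfsg.Agent.Nodes.BNOf Cfsg.Agent.Nodes.StabComb
  Cfsg.Agent.Nodes.LeviDec Cfsg.Agent.Nodes.NormalForm Cfsg.Agent.Nodes.Bruhat
  Cfsg.Agent.Nodes.OppDec Cfsg.Agent.Nodes.RGDChev
  Cfsg.Agent.KFacts.RgdAut Cfsg.Agent.KFacts.RgdDiag Cfsg.Agent.KFacts.RgdRigid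
  Cfsg.Agent.KFacts.RgdField Cfsg.Agent.KFacts.RgdTau Cfsg.Agent.KFacts.RgdChevCoord Cfsg.Agent.KFacts.RgdOpp
  Cfsg.Agent.CpAut.RgdFix Cfsg.Agent.CpAut.RgdCoh Cfsg.Agent.CpAut.RgdConj Cfsg.Agent.CpAut.RgdSub
open Cfsg.Lie Cfsg.Agent.ChevalleyStructure Cfsg.Agent.ChevalleyStructure.Elts
  Cfsg.Agent.ChevalleyStructure.NPerm Cfsg.Agent.ChevalleyStructure.CoxeterGeomTypes
  Cfsg.Agent.ChevStructure.FieldMap Cfsg.Agent.CpAut.RgdUntw
open Cfsg.Agent.H829.FieldTwo

universe u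

section General

variable {I W Y : Type*} [Fintype I] [DecidableEq I] [Group W] [Group Y] {M : CoxeterMatrix I}
  {cs : CoxeterSystem M W} {A : I → I → ℤ} {h : IsCartan M A} {p : ℕ} {T : Subgroup Y} {n : I → Y}
  {X : (I → ℤ) → Subgroup Y}

/-- **Inner automorphisms act trivially on the diagram.** -/
theorem perm_eq_one (R : RGD cs h p T n X) [Finite W] (hG : GG cs h T X = ⊤) {c : Y} {σ : Equiv.Perm I}
    (D : Diag T X (MulAut.conj c) σ) (hU : Fix (MulAut.conj c) (RGD.Sup X (RGD.Pos cs h))) : σ = 1 := by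
  have hc : c ∈ RGD.B cs h T X := by
    rw [← normalizer_U' R hG, Subgroup.mem_normalizer_iff]
    intro x
    exact (hU x).symm
  have hBP : ∀ i, c ∈ PJ cs h T X {i} := fun i => B_le_PJ hc
  ext i
  rw [Equiv.Perm.one_apply]
  by_contra hne
  obtain ⟨x, hx, hx1⟩ := exists_ne_one (opp R) i
  have h1 : c * x * c⁻¹ ∈ X (-sr (σ i)) := (D.neg i x).2 hx
  have h2 : x ∈ UN cs h X ⊓ PJ cs h T X {i} := by rw [X_neg_sr_eq R i]; exact hx
  have h3 : c * x * c⁻¹ ∈ UN cs h X := by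
    have h4 := h1
    rw [← X_neg_sr_eq R (σ i)] at h4
    exact h4.1
  have h4 : c * x * c⁻¹ ∈ X (-sr i) := by
    rw [← X_neg_sr_eq R i]
    exact ⟨h3, (PJ cs h T X {i}).mul_mem ((PJ cs h T X {i}).mul_mem (hBP i) h2.2)
      ((PJ cs h T X {i}).inv_mem (hBP i))⟩
  have h5 : (-sr (σ i) : I → ℤ) ≠ -sr i := by
    intro h6
    have h7 := congrFun (neg_injective h6) (σ i)
    rw [sr_self, sr_ne hne] at h7
    exact one_ne_zero h7
  have h6 := X_inf_X R (isRoot_sr cs h (σ i)).neg (isRoot_sr cs h i).neg h5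
  rw [Subgroup.eq_bot_iff_forall] at h6
  have h7 := h6 _ ⟨h1, h4⟩
  apply hx1
  have h8 : x = c⁻¹ * (c * x * c⁻¹) * c := by group
  rw [h8, h7]
  group

/-- An automorphism fixing all root groups. -/
theorem diag_of_fix (R : RGD cs h p T n X) [Finite W] (hG : GG cs h T X = ⊤) {φ : MulAut Y}
    (hfix : ∀ r, IsRoot cs h r → Fix φ (X r)) : Diag T X φ 1 := by
  obtain ⟨σ, D⟩ := exists_diag R hG (fix_Sup (S := RGD.Pos cs h) fun r hr => hfix r hr.1)
    (fix_Sup (S := Neg cs h) fun r hr => hfix r hr.1)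
  have hσ : σ = 1 := by
    ext i
    rw [Equiv.Perm.one_apply]
    by_contra hne
    obtain ⟨u, hu, hu1⟩ := exists_ne_one R i
    have h2 := (D.pos i u).2 hu
    have h3 := (hfix _ (isRoot_sr cs h i) u).2 hu
    have h4 : sr (σ i) ≠ (sr i : I → ℤ) := by
      intro h5
      have h6 := congrFun h5 (σ i)
      rw [sr_self, sr_ne hne] at h6
      exact one_ne_zero h6
    have h5 := X_inf_X R (isRoot_sr cs h (σ i)) (isRoot_sr cs h i) h4
    rw [Subgroup.eq_bot_iff_forall] at h5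
    exact hu1 (φ.injective (by rw [h5 _ ⟨h2, h3⟩, map_one]))
  rwa [hσ] at D

end General

variable {D : ChevalleyDatum} {l : ℕ} {M : CoxeterMatrix (Fin l)} (hp : IsType D l M) {K : Type u} [Field K]

theorem xc_eq {r : ℕ} (hr : r < D.nroots) (a : K) :
    xc hp (vec D l r) a = Cfsg.Agent.H79.SimpleGen.xS hp.inList r a :=
  Subtype.ext (coe_xc hp hr a)

/-- **An automorphism without graph part is not of graph type.** -/
theorem not_graph [Finite K] [CharP K 2] {x : MulAut ↥(D.group K)} (hx : GraphType hp K x) {y : ↥(D.group K)}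
    {d φ : MulAut ↥(D.group K)} (hd : D.IsDiagonalAut d) (hφ : D.IsFieldAut φ)
    (hxy : ∀ a, x a = y * d (φ a) * y⁻¹) : False := by
  have : Fact (Nat.Prime 2) := ⟨Nat.prime_two⟩
  obtain ⟨g, u, β, σ, hu, hσ1, -, hσ, Dβ, hβ, -, e⟩ := hx
  have hW := finite_W hp (M.toCoxeterSystem)
  have R := rgd (K := K) hp M.toCoxeterSystem 2
  have hG1 : RGD.Sup (XX D l K) {x | IsRoot M.toCoxeterSystem hp.isCartan x} = ⊤ := G1_eq_top hp M.toCoxeterSystem
  have hG := GG_eq_top (T := TT D K) hG1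
  have C := coords (K := K) hp M.toCoxeterSystem 2
  obtain ⟨χ, hχ, rfl⟩ := Cfsg.Agent.H79.CharDiag.eq_diagAut hp.inList hd
  obtain ⟨τ, rfl⟩ := Cfsg.Agent.H296.ESixGF.eq_fld hp hφ
  -- the frame part
  have hfix : ∀ r, IsRoot M.toCoxeterSystem hp.isCartan r →
      Fix (Cfsg.Agent.H79.CharDiag.diagAut hp.inList hχ * fld D τ) (XX D l K r) := by
    intro r hr
    have hC := C.coord r hr
    obtain ⟨s, hs, rfl⟩ := (isRoot_iff hp M.toCoxeterSystem r).1 hr
    have key : ∀ a, (Cfsg.Agent.H79.CharDiag.diagAut hp.inList hχ * fld D τ) (xc hp (vec D l s) a) =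
        xc hp (vec D l s) ((χ s : K) * τ a) := by
      intro a
      rw [MulAut.mul_apply, fld_xc hp τ hs, xc_eq hp hs, Cfsg.Agent.H79.CharDiag.diagAut_xS hp.inList hχ hs, xc_eq hp hs]
    intro z
    constructor
    · intro hz
      obtain ⟨b, hb⟩ := (hC.mem _).1 hz
      obtain ⟨a, ha⟩ : ∃ a, (χ s : K) * τ a = b := by
        obtain ⟨a, ha⟩ := τ.surjective ((χ s : K)⁻¹ * b)
        exact ⟨a, by rw [ha, mul_inv_cancel_left₀ (Units.ne_zero _)]⟩
      rw [← ha, ← key] at hb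
      exact (hC.mem _).2 ⟨a, MulEquiv.injective _ hb⟩
    · intro hz
      obtain ⟨a, rfl⟩ := (hC.mem _).1 hz
      rw [key]
      exact (hC.mem _).2 ⟨_, rfl⟩
  set δ := Cfsg.Agent.H79.CharDiag.diagAut hp.inList hχ * fld D τ with hδ
  have Dδ : Diag (TT D K) (XX D l K) δ 1 := diag_of_fix R hG hfix
  have hδU : Fix δ (RGD.Sup (XX D l K) (RGD.Pos M.toCoxeterSystem hp.isCartan)) :=
    fix_Sup (S := RGD.Pos M.toCoxeterSystem hp.isCartan) fun r hr => hfix r hr.1
  -- the inner part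
  have hxδ : x = MulAut.conj y * δ := by
    apply MulEquiv.ext
    intro a
    rw [hxy]
    rfl
  have h1 : β * δ⁻¹ = MulAut.conj (u⁻¹ * g⁻¹ * y * δ g) := by
    have h2 : β = (MulAut.conj u)⁻¹ * (MulAut.conj g)⁻¹ * x * MulAut.conj g := by
      rw [e]
      group
    have h3 : δ * MulAut.conj g * δ⁻¹ = MulAut.conj (δ g) := by
      apply MulEquiv.ext
      intro a
      simp only [MulAut.mul_apply, MulAut.conj_apply, map_mul, map_inv, MulAut.apply_inv_self]
    rw [h2, hxδ, map_mul, map_mul, map_mul, map_inv, map_inv, ← h3]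
    group
  have h2 : σ = 1 := by
    refine perm_eq_one R hG (c := u⁻¹ * g⁻¹ * y * δ g) ?_ ?_
    · rw [← h1]
      have := Dβ.mul Dδ.inv
      rwa [inv_one, mul_one] at this
    · rw [← h1]
      exact hβ.mul hδU.inv
  exact hσ1 h2

end Cfsg.Agent.H296.Link
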