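import Cfsg.Agent.H296.FFourRow
import Cfsg.Agent.H296.Link
import Cfsg.Agent.H79.Steinberg

/-!
# Graph types of `F₄` and `E₆` in characteristic two (helper296)

* `f4` : the field `f4` of `H829.ExcComp.GraphIn`;
* `e6_of` : the field `e6` of `H829.ExcComp.GraphIn` from the pure graph case (`PureSix`).
-/

set_option autoImplicit false

namespace Cfsg.Agent.H296.GraphRows

open Subgroup Cfsg Cfsg.Lie Cfsg.Lie.ChevalleyDatum
open Cfsg.Agent.H829.FieldTwo Cfsg.Agent.H829.ExcComp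

/-- **The graph type of `F₄(q)`, `q` even.** -/
theorem f4 : ∀ (F : Type) [Field F] [Fintype F] [CharP F 2] (x : MulAut ↥(chevF4.group F)), x ^ 2 = 1 →
    GraphType isType_F4 F x → ∀ A : Subgroup ↥(fixedSubgroup x), IsComponent A →
      FFourPair ↥(chevF4.group F) ↥A := by
  intro F _ _ _ x hx hg A hA
  obtain ⟨y, d, g, φ, hd, hgr, hφ, e⟩ := Cfsg.Agent.H79.Steinberg.exists_fac isType_F4.inList x
  refine FFour.comp_pair (by rw [← pow_two]; exact hx) hd hgr hφ ?_ e hA
  rintro rfl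
  exact Link.not_graph isType_F4 hg hd hφ e

/-- the pure graph case of `E₆(q)`, `q` even -/
def PureSix : Prop :=
  ∀ (F : Type) [Field F] [Fintype F] [CharP F 2] (x : MulAut ↥(chevE6.group F)), x ^ 2 = 1 →
    ∀ (y : ↥(chevE6.group F)) (d g : MulAut ↥(chevE6.group F)), chevE6.IsDiagonalAut d → chevE6.IsGraphAut g → g ≠ 1 →
      (∀ a, x a = y * d (g a) * y⁻¹) → ∀ A : Subgroup ↥(fixedSubgroup x), IsComponent A →
        ESixPair ↥(chevE6.group F) ↥A

/-- **The graph type of `E₆(q)`, `q` even, from the pure graph case.** -/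
theorem e6_of (H : PureSix) : ∀ (F : Type) [Field F] [Fintype F] [CharP F 2] (x : MulAut ↥(chevE6.group F)),
    x ^ 2 = 1 → GraphType isType_E6 F x → ∀ A : Subgroup ↥(fixedSubgroup x), IsComponent A →
      ESixPair ↥(chevE6.group F) ↥A := by
  intro F _ _ _ x hx hg A hA
  obtain ⟨y, d, g, φ, hd, hgr, hφ, e⟩ := Cfsg.Agent.H79.Steinberg.exists_fac isType_E6.inList x
  have hg1 : g ≠ 1 := by
    rintro rfl
    exact Link.not_graph isType_E6 hg hd hφ e
  by_cases hφ1 : φ = 1
  · subst hφ1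
    exact H F x hx y d g hd hgr hg1 e A hA
  · obtain ⟨q, -, hF, -, h⟩ := ESixGF.comp (by rw [← pow_two]; exact hx) hd hgr hφ hg1 hφ1 e
    exact ⟨F, inferInstance, inferInstance, inferInstance, ⟨MulEquiv.refl _⟩, Or.inl ⟨q, hF, h A hA⟩⟩

end Cfsg.Agent.H296.GraphRows
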