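import Cfsg.Agent.H296.TwoPart
import Cfsg.Agent.H393.Iso.Base
import Cfsg.Agent.H568.RowTools
import Cfsg.Agent.OrdDiv.Main

/-!
# Elements of order `l` commuting with elements of order `p`, `l` isolated from 2 (helper296)

* `comm_cases` : the `l`-chief factor `M / R` of `C(y)`: `R` of odd order, `|M / R| = l` or `M / R` is one of the known
  simple groups with order dividing `|K| / p`;
* `Cd` : the conclusion, `Cd.dvd`, `Cd.isCyclic`, `Cd.inCore`;
* `row_of_cls`, `row_of_noComm` : rows of S4329 for groups whose automorphisms of order `p` are inner.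
-/

set_option autoImplicit false

namespace Cfsg.Agent.H296.Comm

open Subgroup Cfsg Cfsg.Agent.H363.Frat Cfsg.Agent.H296.TwoPart Cfsg.Agent.OrdDiv Cfsg.Agent.H393.Iso

universe u

variable {K : Type u} [Group K] [Finite K] {p l : ℕ}

theorem nonAdj_of_na (hl : l.Prime) (hl2 : l ≠ 2) (h : NA l K) : NonAdj K l 2 := by
  intro g hg
  refine h (g ^ 2) (g ^ l) ?_ ?_ ?_
  · rw [orderOf_pow_of_dvd two_ne_zero (by rw [hg]; exact Dvd.intro_left _ rfl), hg, Nat.mul_div_cancel _ two_pos]
  · rw [orderOf_pow_of_dvd hl.ne_zero (by rw [hg]; exact Dvd.intro _ rfl), hg, Nat.mul_div_cancel_left _ hl.pos]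
  · rw [← pow_add, ← pow_add, add_comm]

/-- the `l`-chief factor of `D`: of order `l`, or one of the simple groups in `gs` -/
structure Cd (l : ℕ) (gs : List Grp) (D : Type u) [Group D] [Finite D] (R M : Subgroup D) [R.Normal] : Prop where
  fac : Fac l R M
  odd : ¬ 2 ∣ Nat.card R
  cas : Nat.card ↥(M.map (QuotientGroup.mk' R)) = l ∨
    ∃ g ∈ gs, Real g ↥(M.map (QuotientGroup.mk' R)) ∧ Nat.card ↥(M.map (QuotientGroup.mk' R)) = ordN g

/-- **The cases.** -/
theorem comm_cases (AK : ∀ (S : Type u) [Group S] [Finite S] [IsSimpleGroup S], IsKnownSimple' S) (T : OrderTable.{u})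
    (hp : p.Prime) (hl : l.Prime) (hl2 : l ≠ 2) (hlK : ¬ l ^ 2 ∣ Nat.card K) (na : NA l K) {x y : K}
    (hx : orderOf x = l) (hy : orderOf y = p) (hxy : x * y = y * x)
    (num : ∀ k : ℕ, k ≠ 0 → 2 ^ k ∣ Nat.card (centralizer ({y} : Set K)) → ¬ l ∣ 2 ^ k - 1)
    {L : List (ℕ × ℕ)} {N : ℕ} (hv : valid L N = true) (hN : Nat.card K ∣ N * p) :
    ∃ (R M : Subgroup ↥(centralizer ({y} : Set K))) (_ : R.Normal),
      Cd l ((cands L N).filter fun g => ordN g % l == 0) ↥(centralizer ({y} : Set K)) R M := by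
  set D := centralizer ({y} : Set K) with hD
  have hxD : x ∈ D := mem_centralizer_singleton_iff.2 hxy
  have hlD : l ∣ Nat.card D := by
    rw [← hx, ← Subgroup.orderOf_mk x hxD]
    exact orderOf_dvd_natCard _
  have hlD2 : ¬ l ^ 2 ∣ Nat.card D := fun h => hlK (h.trans (Subgroup.card_subgroup_dvd_card D))
  obtain ⟨R, M, hR, F⟩ := exists_fac (D := D) hl hlD hlD2
  have naD : NonAdj D l 2 := (nonAdj_of_na hl hl2 na).subgroup D
  have hRo := F.not_dvd hl Nat.prime_two hl2 naD num
  refine ⟨R, M, hR, F, hRo, ?_⟩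
  set S := M.map (QuotientGroup.mk' R) with hS
  have := F.simple
  by_cases hab : ∀ a b : S, a * b = b * a
  · left
    have hcomm : IsMulCommutative ↥S := ⟨⟨hab⟩⟩
    let _ : CommGroup ↥S := { (inferInstance : Group ↥S) with mul_comm := hab }
    have h1 : (Nat.card ↥S).Prime := IsSimpleGroup.prime_card (α := ↥S)
    exact ((Nat.prime_dvd_prime_iff_eq hl h1).1 F.dvd).symm
  · right
    -- `|S| * p` divides `|D|`
    have hyD : y ∈ D := mem_centralizer_singleton_iff.2 rfl
    have hyc : ∀ d : D, (⟨y, hyD⟩ : D) * d = d * ⟨y, hyD⟩ := fun d =>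
      Subtype.ext (mem_centralizer_singleton_iff.1 d.2).symm
    have hSp : Nat.card ↥S * p ∣ Nat.card D := by
      have h1 : Nat.card D = Nat.card ↥S * (Nat.card R * M.index) := by
        rw [← M.card_mul_index, F.card]
        ring
      rw [h1]
      apply Nat.mul_dvd_mul_left
      by_cases hyR : (⟨y, hyD⟩ : D) ∈ R
      · apply Dvd.dvd.mul_right
        rw [← hy, ← Subgroup.orderOf_mk y hyD, ← Subgroup.orderOf_mk (⟨y, hyD⟩ : D) hyR]
        exact orderOf_dvd_natCard _
      · apply Dvd.dvd.mul_left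
        have hMn := F.nM
        have hyM : (⟨y, hyD⟩ : D) ∉ M := by
          intro hyM
          -- then its image is central in the simple group `S`
          set s : ↥S := ⟨QuotientGroup.mk' R ⟨y, hyD⟩, ⟨_, hyM, rfl⟩⟩ with hs
          have hsc : s ∈ center ↥S := by
            rw [mem_center_iff]
            rintro ⟨_, m, hm, rfl⟩
            apply Subtype.ext
            show QuotientGroup.mk' R m * QuotientGroup.mk' R ⟨y, hyD⟩ = QuotientGroup.mk' R ⟨y, hyD⟩ * QuotientGroup.mk' R m
            rw [← map_mul, ← map_mul, hyc]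
          have hcb : center ↥S = ⊥ := by
            rcases (inferInstance : (center ↥S).Normal).eq_bot_or_eq_top with h | h
            · exact h
            · exfalso
              apply hab
              intro a b
              exact (mem_center_iff.1 (h ▸ mem_top b : b ∈ center ↥S) a)
          rw [hcb, mem_bot] at hsc
          have h2 : QuotientGroup.mk' R ⟨y, hyD⟩ = 1 := congrArg Subtype.val hsc
          exact hyR ((QuotientGroup.eq_one_iff _).1 h2)
        have h3 : orderOf ((⟨y, hyD⟩ : D) : D ⧸ M) ∣ p := by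
          rw [← hy, ← Subgroup.orderOf_mk y hyD]
          exact orderOf_map_dvd (QuotientGroup.mk' M) _
        rcases (Nat.dvd_prime hp).1 h3 with h4 | h4
        · exact absurd ((QuotientGroup.eq_one_iff _).1 (orderOf_eq_one_iff.1 h4)) hyM
        · rw [← h4]
          exact orderOf_dvd_natCard _
    have hSN : Nat.card ↥S ∣ N := by
      have h1 : Nat.card ↥S * p ∣ N * p := hSp.trans ((Subgroup.card_subgroup_dvd_card D).trans hN)
      exact Nat.dvd_of_mul_dvd_mul_right hp.pos h1
    obtain ⟨g, hg, hr, hc⟩ := exists_good T (AK ↥S) hab hv hSN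
    refine ⟨g, List.mem_filter.2 ⟨hg, ?_⟩, hr, hc⟩
    rw [← hc]
    exact beq_iff_eq.2 (Nat.mod_eq_zero_of_dvd F.dvd)

end Cfsg.Agent.H296.Comm
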