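import Cfsg.Agent.H296.FFourFix
import Cfsg.Agent.H829.ExcComp
import Cfsg.Agent.TypeD4Two.FieldIso
import Cfsg.Agent.S1072
import Cfsg.Agent.S1074

/-!
# Graph-field automorphisms of order two of `F₄(2^(2m+1))`: the components (helper296)

* `tw_congr` : `²F₄` over isomorphic fields;
* `comp_pair` : the components of the fixed subgroup are `²F₄(2^(2m+1))`, resp. the Tits group.
-/

set_option autoImplicit false
set_option linter.unusedSectionVars false

namespace Cfsg.Agent.H296.FFour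

open Subgroup Cfsg Cfsg.Lie Cfsg.Lie.ChevalleyDatum
open Cfsg.Agent.CpAut.RgdUntw (fld)
open Cfsg.Agent.TypeD4Two.FieldIso (mapW genSubgroup_map map_injective')

universe u

section Congr

variable {F K : Type*} [Field F] [Field K] (σ : F ≃+* K)

theorem f4Words_map (e : ℕ) : mapW σ '' f4Words F e = f4Words K e := by
  apply Set.eq_of_subset_of_subset
  · rintro _ ⟨w, hw, rfl⟩
    rcases hw with ⟨t, rfl | rfl⟩ | ⟨t, u, rfl | rfl⟩
    · exact Or.inl ⟨σ t, Or.inl (by simp [mapW, f4PairWord])⟩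
    · exact Or.inl ⟨σ t, Or.inr (by simp [mapW, f4PairWord])⟩
    · exact Or.inr ⟨σ t, σ u, Or.inl (by simp [mapW, b2ClassWord])⟩
    · exact Or.inr ⟨σ t, σ u, Or.inr (by simp [mapW, b2ClassWord])⟩
  · rintro w hw
    rcases hw with ⟨t, rfl | rfl⟩ | ⟨t, u, rfl | rfl⟩
    · exact ⟨f4PairWord e f4p1 f4p4 (σ.symm t), Or.inl ⟨σ.symm t, Or.inl rfl⟩, by simp [mapW, f4PairWord]⟩
    · exact ⟨f4PairWord e f4m1 f4m4 (σ.symm t), Or.inl ⟨σ.symm t, Or.inr rfl⟩, by simp [mapW, f4PairWord]⟩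
    · exact ⟨b2ClassWord e f4a f4b f4ab f4aab (σ.symm t) (σ.symm u), Or.inr ⟨σ.symm t, σ.symm u, Or.inl rfl⟩,
        by simp [mapW, b2ClassWord]⟩
    · exact ⟨b2ClassWord e f4ma f4mb f4mab f4maab (σ.symm t) (σ.symm u), Or.inr ⟨σ.symm t, σ.symm u, Or.inr rfl⟩,
        by simp [mapW, b2ClassWord]⟩

/-- `²F₄` over isomorphic fields. -/
noncomputable def twCongr (e : ℕ) : ↥(twistedF4 F e) ≃* ↥(twistedF4 K e) :=
  ((twistedF4 F e).equivMapOfInjective _ (map_injective' σ chevF4)).trans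
    (MulEquiv.subgroupCongr (by
      unfold twistedF4
      rw [genSubgroup_map, f4Words_map]))

end Congr

/-- the derived subgroup under an isomorphism -/
noncomputable def commCongr {G H : Type*} [Group G] [Group H] (e : G ≃* H) : ↥(_root_.commutator G) ≃* ↥(_root_.commutator H) :=
  ((_root_.commutator G).equivMapOfInjective e.toMonoidHom e.injective).trans (MulEquiv.subgroupCongr (by
    unfold _root_.commutator
    rw [Subgroup.map_commutator, ← MonoidHom.range_eq_map, MonoidHom.range_eq_top.2 e.surjective]))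

theorem comm_tits {C : Type*} [Group C] (e : C ≃* ↥(twistedF4 (ZMod 2) 1)) :
    Nonempty (↥(_root_.commutator C) ≃* TitsGroup) := by
  exact ⟨commCongr e⟩

theorem simple_congr {X Y : Type*} [Group X] [Group Y] (h : IsSimpleGroup Y) (e : X ≃* Y) : IsSimpleGroup X :=
  e.isSimpleGroup

theorem simple_tits {X : Type*} [Group X] (e : X ≃* TitsGroup) : IsSimpleGroup X :=
  simple_congr Cfsg.Agent.S1074.result.2.1 e

section Main

variable {F : Type} [Field F] [Fintype F] [CharP F 2]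

/-- the component of a group isomorphic to `²F₄(2^(2m+1))` -/
theorem comp_tw {m : ℕ} (hK : Fintype.card F = 2 ^ (2 * m + 1)) {C : Type*} [Group C]
    (e : C ≃* ↥(twistedF4 F (2 ^ m))) {A : Subgroup C} (hA : IsComponent A) :
    (1 ≤ m ∧ Nonempty (↥A ≃* ↥(twistedF4 F (2 ^ m)))) ∨ (m = 0 ∧ IsoTits ↥A) := by
  rcases Nat.eq_zero_or_pos m with h0 | h0
  · right
    subst h0
    refine ⟨rfl, ?_⟩
    have h2 : Fintype.card F = Fintype.card (ZMod 2) := by rw [hK, ZMod.card]; rfl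
    have σ : F ≃+* ZMod 2 := FiniteField.ringEquivOfCardEq h2
    rw [pow_zero] at e
    have e3 : ↥(twistedF4 F 1) ≃* ↥(twistedF4 (ZMod 2) 1) := twCongr σ 1
    have e2 : C ≃* ↥(twistedF4 (ZMod 2) 1) := e.trans e3
    obtain ⟨e1⟩ := comm_tits e2
    have h4 : IsSimpleGroup ↥(_root_.commutator C) := simple_tits e1
    have h5 := Lift.comp_eq h4 le_rfl hA
    exact ⟨(MulEquiv.subgroupCongr h5).trans e1⟩
  · left
    refine ⟨h0, ?_⟩
    have h1 : IsSimpleGroup ↥(twistedF4 F (2 ^ m)) := (Cfsg.Agent.S1072.result h0 hK).1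
    have h2 : IsSimpleGroup C := e.isSimpleGroup
    have h3 : IsSimpleGroup ↥(⊤ : Subgroup C) := Subgroup.topEquiv.isSimpleGroup
    have h5 := Lift.comp_eq h3 le_top hA
    exact ⟨(MulEquiv.subgroupCongr h5).trans (Subgroup.topEquiv.trans e)⟩

/-- **The components of the centralizer of a graph-field automorphism of order two of `F₄(F)`.** -/
theorem comp_pair {x : MulAut ↥(chevF4.group F)} (hx : x * x = 1) {y : ↥(chevF4.group F)}
    {d g φ : MulAut ↥(chevF4.group F)} (hd : chevF4.IsDiagonalAut d)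
    (hg : chevF4.IsGraphAut g) (hφ : chevF4.IsFieldAut φ) (hg1 : g ≠ 1)
    (hxy : ∀ a, x a = y * d (g (φ a)) * y⁻¹) {A : Subgroup ↥(fixedSubgroup x)} (hA : IsComponent A) :
    Cfsg.Agent.H829.ExcComp.FFourPair ↥(chevF4.group F) ↥A := by
  have : Fact (Nat.Prime 2) := ⟨Nat.prime_two⟩
  have : PerfectRing F 2 := inferInstance
  obtain ⟨m, τ, ζ, hK, hτ, hζ⟩ := main hx hd hg hφ hg1 hxy
  obtain ⟨e⟩ := fixed_equiv hK hτ
  have ε : ↥(fixedSubgroup x) ≃* ↥(fixedSubgroup (sg τ)) := Lift.fixedEquiv x _ ζ hζ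
  exact ⟨F, inferInstance, inferInstance, inferInstance, m, hK, ⟨MulEquiv.refl _⟩, comp_tw hK (ε.trans e) hA⟩

end Main

end Cfsg.Agent.H296.FFour
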