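import Cfsg.Agent.H296.FFourRow
import Cfsg.Agent.S1062
import Cfsg.Agent.S2122
import Cfsg.Agent.EvenType.CharTwoCent

/-!
# `F₄(2).2` is not of characteristic 2 type (helper296)
-/

set_option autoImplicit false
set_option linter.unusedSectionVars false

namespace Cfsg.Agent.H296.FFour

open Subgroup Cfsg Cfsg.Lie Cfsg.Lie.ChevalleyDatum
open Cfsg.Agent.CpAut.RgdUntw (fld)

universe u

/-- a simple normal subgroup which is not a 2-group, in a group of characteristic 2: impossible -/
theorem no_simple_normal {C : Type*} [Group C] [Finite C] (hC : IsOfCharacteristicTwo C) (W : Subgroup C) [W.Normal]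
    (hW : IsSimpleGroup ↥W) (h2 : ¬ IsPGroup 2 ↥W) : False := by
  have : Fact (Nat.Prime 2) := ⟨Nat.prime_two⟩
  have hn : (pCore 2 C).Normal := Lib.Cores.pCore_normal 2
  have hp : IsPGroup 2 ↥(pCore 2 C) := Lib.Cores.pCore_isPGroup 2
  have h1 : (pCore 2 C).subgroupOf W = ⊥ := by
    have h3 : ((pCore 2 C).subgroupOf W).Normal := inferInstance
    rcases h3.eq_bot_or_eq_top with h4 | h4
    · exact h4
    · exfalso
      apply h2
      have h5 : W ≤ pCore 2 C := by rwa [subgroupOf_eq_top] at h4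
      exact hp.to_le h5
  have h3 : Disjoint W (pCore 2 C) := by
    rw [disjoint_comm, ← subgroupOf_eq_bot]
    exact h1
  have h4 : W ≤ centralizer (pCore 2 C : Set C) := by
    intro w hw
    rw [mem_centralizer_iff]
    intro x hx
    exact (commute_of_normal_of_disjoint W (pCore 2 C) inferInstance hn h3 w x hw hx).symm
  have h5 := h4.trans hC
  exact h2 (hp.to_le h5)

theorem card_tw {F : Type} [Field F] [Fintype F] (hF : Fintype.card F = 2) :
    Nonempty (↥(twistedF4 F 1) ≃* ↥(twistedF4 (ZMod 2) 1)) ∧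
      Nat.card ↥(twistedF4 F 1) = 2 * (2 ^ 11 * 3 ^ 3 * 5 ^ 2 * 13) := by
  have : Fact (Nat.Prime 2) := ⟨Nat.prime_two⟩
  have h2 : Fintype.card F = Fintype.card (ZMod 2) := by rw [hF, ZMod.card]
  have σ : F ≃+* ZMod 2 := FiniteField.ringEquivOfCardEq h2
  have e3 : ↥(twistedF4 F 1) ≃* ↥(twistedF4 (ZMod 2) 1) := twCongr σ 1
  refine ⟨⟨e3⟩, ?_⟩
  rw [Nat.card_congr e3.toEquiv, ← (_root_.commutator ↥(twistedF4 (ZMod 2) 1)).index_mul_card]
  rw [Cfsg.Agent.S1074.result.1]
  congr 1
  exact Cfsg.Agent.S1074.result.2.2.2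

theorem f42_top {G : Type u} [Group G] [Finite G] (hG : Cfsg.IsCharacteristicTwoType G) {S : Subgroup G} [S.Normal]
    (hc : Subgroup.centralizer (S : Set G) = ⊥) {F : Type} [Field F] [Fintype F] (hF : Fintype.card F = 2)
    (e : ↥S ≃* ↥(Cfsg.Lie.chevF4.group F)) : S = ⊤ := by
  classical
  have : Fact (Nat.Prime 2) := ⟨Nat.prime_two⟩
  have hch : CharP F 2 := by
    have h1 : Fintype.card F = 2 ^ 1 := by rw [hF]; rfl
    exact charP_of_card_eq_prime_pow h1
  have : PerfectRing F 2 := inferInstance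
  by_contra hne
  -- the map to the automorphism group
  let c : G →* MulAut ↥(chevF4.group F) := (MulAut.congr e).toMonoidHom.comp (MulAut.conjNormal (H := S))
  have hcap : ∀ (g : G) (s : ↥S), c g (e s) = e (MulAut.conjNormal g s) := by
    intro g s
    show e (MulAut.conjNormal g (e.symm (e s))) = _
    rw [e.symm_apply_apply]
  have hker : c.ker = ⊥ := by
    rw [eq_bot_iff]
    intro g hg
    rw [MonoidHom.mem_ker] at hg
    have h1 : MulAut.conjNormal g = (1 : MulAut ↥S) := by
      apply (MulAut.congr e).injective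
      rw [map_one]
      exact hg
    rw [← hc, mem_centralizer_iff]
    intro s hs
    have h2 := congrArg (fun f : MulAut ↥S => ((f ⟨s, hs⟩ : ↥S) : G)) h1
    simp only [MulAut.conjNormal_apply, MulAut.one_apply] at h2
    exact (mul_inv_eq_iff_eq_mul.1 h2).symm
  have hcS : ∀ s : ↥S, c s = MulAut.conj (e s) := by
    intro s
    apply MulEquiv.ext
    intro a
    obtain ⟨b, rfl⟩ := e.surjective a
    rw [hcap, MulAut.conj_apply, ← map_mul, ← map_inv, ← map_mul]
    congr 1
  have hSmap : S.map c = Inn ↥(chevF4.group F) := by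
    ext f
    constructor
    · rintro ⟨s, hs, rfl⟩
      exact ⟨e ⟨s, hs⟩, (hcS ⟨s, hs⟩).symm⟩
    · rintro ⟨a, rfl⟩
      obtain ⟨b, rfl⟩ := e.surjective a
      exact ⟨b, b.2, hcS b⟩
  have hinn : Inn ↥(chevF4.group F) < c.range := by
    rw [← hSmap]
    refine lt_of_le_of_ne (map_le_range _ _) ?_
    intro h1
    apply hne
    rw [eq_top_iff]
    intro g _
    have h2 : c g ∈ S.map c := by rw [h1]; exact ⟨g, rfl⟩
    obtain ⟨s, hs, h3⟩ := h2
    have h4 : s⁻¹ * g ∈ c.ker := by rw [MonoidHom.mem_ker, map_mul, map_inv, h3, inv_mul_cancel]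
    rw [hker, mem_bot, inv_mul_eq_one] at h4
    rwa [← h4]
  have hidx : (Inn ↥(chevF4.group F)).index = 2 := by
    have h1 : Nat.card (Cfsg.Out ↥(chevF4.group F)) = Nat.gcd 2 2 * 1 :=
      Cfsg.Agent.S2122.result (F := F) 2 1 (by rw [hF]; rfl)
    exact h1
  have htop : c.range = ⊤ := by
    rw [← Subgroup.index_eq_one]
    have h1 := Subgroup.relIndex_mul_index hinn.le
    rw [hidx] at h1
    have h2 : (Inn ↥(chevF4.group F)).relIndex c.range ≠ 1 := by
      rw [Ne, relIndex_eq_one]
      exact fun h => absurd h hinn.not_ge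
    have h3 : c.range.index ∣ 2 := Dvd.intro_left _ h1
    rcases (Nat.dvd_prime Nat.prime_two).1 h3 with h4 | h4
    · exact h4
    · rw [h4] at h1
      omega
  have hal : al F ∈ c.range := by rw [htop]; exact mem_top _
  obtain ⟨u, hu⟩ := hal
  -- the fixed points
  have hsg : (sg (RingEquiv.refl F) : MulAut ↥(chevF4.group F)) = al F := by
    apply MulEquiv.ext
    intro a
    unfold sg
    rw [MulAut.mul_apply]
    congr 1
  obtain ⟨ε⟩ := fixed_equiv (F := F) (m := 0) (τ := RingEquiv.refl F) (by rw [hF]; rfl) (by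
    intro a
    rw [pow_zero, pow_one]
    rfl)
  rw [hsg, pow_zero] at ε
  obtain ⟨⟨e3⟩, hcard⟩ := card_tw hF
  -- the element `u` has order 2
  have hal2 : al F * al F = 1 := by
    rw [al_sq]
    apply aut_ext4
    intro r hr t
    rw [phi_xS, MulAut.one_apply, pow_one]
    congr 1
    have h1 := FiniteField.pow_card t
    rwa [hF] at h1
  have hu2 : u ^ 2 = 1 := by
    have h1 : u ^ 2 ∈ c.ker := by rw [MonoidHom.mem_ker, map_pow, hu, sq, hal2]
    rwa [hker, mem_bot] at h1
  have hu1 : u ≠ 1 := by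
    rintro rfl
    rw [map_one] at hu
    have h1 : fixedSubgroup (al F) = ⊤ := by
      rw [← hu, eq_top_iff]
      intro a _
      rfl
    have h2 : Nat.card ↥(chevF4.group F) = 2 * (2 ^ 11 * 3 ^ 3 * 5 ^ 2 * 13) := by
      rw [← hcard, ← Nat.card_congr ε.toEquiv, h1, Nat.card_congr Subgroup.topEquiv.toEquiv]
    rw [Cfsg.Agent.S1062.result hF] at h2
    norm_num at h2
  have huo : orderOf u = 2 := orderOf_eq_prime hu2 hu1
  have hC := Cfsg.Agent.EvenType.CharTwoCent.char2_centralizer hG huo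
  -- the normal subgroup `C_S(u)`
  let N : Subgroup ↥(centralizer ({u} : Set G)) := S.subgroupOf _
  have hN : N.Normal := inferInstance
  have hmem : ∀ x : ↥N, c u (e ⟨(x : ↥(centralizer ({u} : Set G))), x.2⟩) = e ⟨(x : ↥(centralizer ({u} : Set G))), x.2⟩ := by
    intro x
    rw [hcap]
    congr 1
    apply Subtype.ext
    rw [MulAut.conjNormal_apply]
    have h1 := mem_centralizer_singleton_iff.1 (x : ↥(centralizer ({u} : Set G))).2
    rw [← h1, mul_inv_cancel_right]
  let f : ↥N →* ↥(fixedSubgroup (al F)) :=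
    { toFun := fun x => ⟨e ⟨(x : ↥(centralizer ({u} : Set G))), x.2⟩, by rw [← hu]; exact hmem x⟩
      map_one' := by
        apply Subtype.ext
        exact map_one e
      map_mul' := by
        intro x y
        apply Subtype.ext
        exact map_mul e ⟨(x : ↥(centralizer ({u} : Set G))), x.2⟩ ⟨(y : ↥(centralizer ({u} : Set G))), y.2⟩ }
  have hf : Function.Bijective f := by
    constructor
    · intro x y hxy
      have h1 := congrArg Subtype.val hxy
      have h2 := e.injective h1
      have h3 := congrArg Subtype.val h2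
      exact Subtype.ext (Subtype.ext h3)
    · rintro ⟨a, ha⟩
      obtain ⟨b, rfl⟩ := e.surjective a
      have h1 : c u (e b) = e b := by rw [hu]; exact ha
      rw [hcap] at h1
      have h2 := congrArg Subtype.val (e.injective h1)
      rw [MulAut.conjNormal_apply] at h2
      exact ⟨⟨⟨b, mem_centralizer_singleton_iff.2 (mul_inv_eq_iff_eq_mul.1 h2).symm⟩, b.2⟩, Subtype.ext rfl⟩
  have ε1 : ↥N ≃* ↥(twistedF4 (ZMod 2) 1) := ((MulEquiv.ofBijective f hf).trans ε).trans e3
  obtain ⟨ε2⟩ := comm_tits ε1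
  have hW : ↥((_root_.commutator ↥N).map N.subtype) ≃* TitsGroup :=
    ((_root_.commutator ↥N).equivMapOfInjective _ N.subtype_injective).symm.trans ε2
  have hWn : ((_root_.commutator ↥N).map N.subtype).Normal := inferInstance
  refine no_simple_normal hC ((_root_.commutator ↥N).map N.subtype) (simple_tits hW) ?_
  intro h1
  obtain ⟨n, hn⟩ := IsPGroup.iff_card.1 h1
  rw [Nat.card_congr hW.toEquiv, Cfsg.Agent.S1074.result.2.2.2] at hn
  have h2 : 13 ∣ 2 ^ n := by rw [← hn]; exact Dvd.intro_left _ rfl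
  have h3 := (Nat.Prime.dvd_of_dvd_pow (by norm_num) h2 : 13 ∣ 2)
  norm_num at h3

end Cfsg.Agent.H296.FFour
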